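import Groth.Agent.CAlg9.Loop.Gluing
import Mathlib.LinearAlgebra.TensorProduct.Pi
import Mathlib.RingTheory.Finiteness.Projective
import Mathlib.Algebra.Module.Projective

/-!
Finite projective modules over `R` isomorphic over `R((X))` are isomorphic.
-/

set_option autoImplicit false
universe u

open Polynomial TensorProduct

namespace Groth.Agent.CAlg9.Loop

variable {R : Type u} [CommRing R]

/-- constants in the Laurent series -/
noncomputable def cL (R : Type u) [CommRing R] : R →+* LaurentSeries R := HahnSeries.C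

/-- power series as Laurent series -/
noncomputable def jL (R : Type u) [CommRing R] : PowerSeries R →+* LaurentSeries R :=
  HahnSeries.ofPowerSeries ℤ R

theorem jL_C {R : Type u} [CommRing R] (a : R) : jL R (PowerSeries.C a) = cL R a :=
  HahnSeries.ofPowerSeries_C a

theorem map_smul_matrix' {S T : Type*} [CommRing S] [CommRing T] {ι κ : Type*} (f : S →+* T) (a : S)
    (M : Matrix ι κ S) : (a • M).map f = f a • M.map f := by
  ext i j; simp

/-- powers of `X` clear the denominators of finitely many Laurent series -/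
theorem exists_powerSeries_matrix {ι κ : Type*} [Finite ι] [Finite κ] (H : Matrix ι κ (LaurentSeries R)) :
    ∃ k : ℕ, ∀ l ≥ k, ∃ M : Matrix ι κ (PowerSeries R),
      M.map (jL R) = HahnSeries.single (l : ℤ) (1 : R) • H := by
  classical
  cases nonempty_fintype ι
  cases nonempty_fintype κ
  refine ⟨Finset.univ.sup fun x : ι × κ => (-(H x.1 x.2).order).toNat, fun l hl => ?_⟩
  refine ⟨Matrix.of fun i j => PowerSeries.mk fun a => (H i j).coeff ((a : ℤ) - l), ?_⟩
  refine Matrix.ext fun i j => ?_
  ext a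
  rw [Matrix.map_apply, jL, Matrix.smul_apply, smul_eq_mul, HahnSeries.coeff_single_mul, one_mul,
    Matrix.of_apply, PowerSeries.coeff_coe]
  split_ifs with ha
  · have h1 : (-(H i j).order).toNat ≤ l :=
      (Finset.le_sup (f := fun x : ι × κ => (-(H x.1 x.2).order).toNat) (Finset.mem_univ (i, j))).trans hl
    exact (HahnSeries.coeff_eq_zero_of_lt_order (by omega)).symm
  · rw [PowerSeries.coeff_mk]
    congr 1
    omega

/-- one side of the truncation argument -/
theorem exists_trunc_mul {n m : ℕ} (p : Matrix (Fin n) (Fin n) R) (q : Matrix (Fin m) (Fin m) R)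
    (hp : p * p = p) (hq : q * q = q) (c : ℕ) (M₁ : Matrix (Fin m) (Fin n) (PowerSeries R))
    (M₂ : Matrix (Fin n) (Fin m) (PowerSeries R))
    (hM₁ : q.map PowerSeries.C * M₁ * p.map PowerSeries.C = M₁)
    (hM : M₁ * p.map PowerSeries.C * M₂ = (PowerSeries.X : PowerSeries R) ^ c • q.map PowerSeries.C) :
    ∃ W : Matrix (Fin m) (Fin m) R[X], q.map C * W = W ∧ W * q.map C = W ∧
      (q.map C * M₁.map (PowerSeries.trunc (c + 1)) * p.map C) *
          (p.map C * M₂.map (PowerSeries.trunc (c + 1)) * q.map C) =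
        (X : R[X]) ^ c • (q.map C + (X : R[X]) • W) := by
  classical
  let T₁ := M₁.map (PowerSeries.trunc (c + 1))
  let T₂ := M₂.map (PowerSeries.trunc (c + 1))
  let qC := q.map (C : R →+* R[X])
  let pC := p.map (C : R →+* R[X])
  have hqq : qC * qC = qC := by simp only [qC, ← Matrix.map_mul, hq]
  have hpp : pC * pC = pC := by simp only [pC, ← Matrix.map_mul, hp]
  let D := qC * T₁ * pC * (pC * T₂ * qC) - (X : R[X]) ^ c • qC
  let ι : R[X] →+* PowerSeries R := Polynomial.coeToPowerSeries.ringHom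
  let κ : PowerSeries R →+* PowerSeries R ⧸ Ideal.span {(PowerSeries.X : PowerSeries R) ^ (c + 1)} :=
    Ideal.Quotient.mk _
  have htr : ∀ {a b : ℕ} (M : Matrix (Fin a) (Fin b) (PowerSeries R)),
      ((M.map (PowerSeries.trunc (c + 1))).map ι).map κ = M.map κ := by
    intro a b M
    refine Matrix.ext fun i j => ?_
    refine Ideal.Quotient.eq.2 (Ideal.mem_span_singleton.2 ?_)
    rw [PowerSeries.X_pow_dvd_iff]
    intro d hd
    simp only [Matrix.map_apply, map_sub]
    show PowerSeries.coeff d ((PowerSeries.trunc (c + 1) (M i j) : R[X]) : PowerSeries R) - _ = 0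
    rw [Polynomial.coeff_coe, PowerSeries.coeff_trunc, if_pos hd, sub_self]
  have hC : ∀ {a : ℕ} (M : Matrix (Fin a) (Fin a) R), (M.map (C : R →+* R[X])).map ι = M.map PowerSeries.C := by
    intro a M
    refine Matrix.ext fun i j => ?_
    exact Polynomial.coe_C (M i j)
  have hD : (D.map ι).map κ = 0 := by
    simp only [D, Matrix.map_sub _ (map_sub ι), Matrix.map_sub _ (map_sub κ), Matrix.map_mul,
      map_smul_matrix', hC, qC, pC, T₁, T₂, htr]
    rw [map_pow ι, show ι X = PowerSeries.X from Polynomial.coe_X, ← map_smul_matrix' κ,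
      ← Matrix.map_mul, ← Matrix.map_mul, ← Matrix.map_mul, ← Matrix.map_mul, ← Matrix.map_mul, hM₁,
      ← Matrix.map_sub _ (map_sub κ)]
    have : M₁ * (p.map PowerSeries.C * M₂ * q.map PowerSeries.C) -
        (PowerSeries.X : PowerSeries R) ^ c • q.map PowerSeries.C = 0 := by
      rw [← Matrix.mul_assoc, ← Matrix.mul_assoc, hM, Matrix.smul_mul, ← Matrix.map_mul, hq, sub_self]
    rw [this]
    exact Matrix.map_zero _ (map_zero κ)
  have hdvd : ∀ i j, (X : R[X]) ^ (c + 1) ∣ D i j := fun i j => by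
    rw [Polynomial.X_pow_dvd_iff]
    intro d hd
    have := Ideal.mem_span_singleton.1 (Ideal.Quotient.eq_zero_iff_mem.1 (congrFun (congrFun hD i) j))
    have h2 := PowerSeries.X_pow_dvd_iff.1 this d hd
    rw [← Polynomial.coeff_coe]
    exact h2
  choose W₀ hW₀ using hdvd
  let W := qC * Matrix.of W₀ * qC
  refine ⟨W, ?_, ?_, ?_⟩
  · simp only [W, ← Matrix.mul_assoc]; rw [show q.map C * qC = qC from hqq]
  · simp only [W, Matrix.mul_assoc]; rw [show qC * q.map C = qC from hqq]
  · have hDW : D = (X : R[X]) ^ (c + 1) • Matrix.of W₀ := Matrix.ext fun i j => hW₀ i j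
    have hqDq : qC * D * qC = D := by
      simp only [D, Matrix.mul_sub, Matrix.sub_mul, Matrix.mul_smul, Matrix.smul_mul, hqq]
      simp only [← Matrix.mul_assoc, hqq]
      simp only [Matrix.mul_assoc, hqq]
    have h3 : qC * T₁ * pC * (pC * T₂ * qC) = (X : R[X]) ^ c • qC + qC * D * qC := by
      rw [hqDq]; simp only [D]; abel
    show qC * T₁ * pC * (pC * T₂ * qC) = (X : R[X]) ^ c • (qC + (X : R[X]) • W)
    rw [h3, hDW, Matrix.mul_smul, Matrix.smul_mul, smul_add, smul_smul, ← pow_succ]

/-- the descent statement for idempotent matrices -/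
theorem exists_inverse {n m : ℕ} (p : Matrix (Fin n) (Fin n) R) (q : Matrix (Fin m) (Fin m) R)
    (hp : p * p = p) (hq : q * q = q)
    (H : Matrix (Fin m) (Fin n) (LaurentSeries R)) (H' : Matrix (Fin n) (Fin m) (LaurentSeries R))
    (hH : q.map (cL R) * H * p.map (cL R) = H)
    (hH' : p.map (cL R) * H' * q.map (cL R) = H')
    (h1 : H * p.map (cL R) * H' = q.map (cL R))
    (h2 : H' * q.map (cL R) * H = p.map (cL R)) :
    ∃ (P : Matrix (Fin m) (Fin n) R) (Q : Matrix (Fin n) (Fin m) R), P * p * Q = q ∧ Q * q * P = p := by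
  classical
  obtain ⟨k₁, hk₁⟩ := exists_powerSeries_matrix H
  obtain ⟨k₂, hk₂⟩ := exists_powerSeries_matrix H'
  let l := k₁ + k₂ + 1
  obtain ⟨M₁, hM₁⟩ := hk₁ l (by omega)
  obtain ⟨M₂, hM₂⟩ := hk₂ l (by omega)
  let c := 2 * l
  let j := jL R
  have hj : Function.Injective j := HahnSeries.ofPowerSeries_injective
  have hC : ∀ {a : ℕ} (M : Matrix (Fin a) (Fin a) R), (M.map PowerSeries.C).map j = M.map (cL R) := by
    intro a M
    refine Matrix.ext fun i j => ?_
    exact jL_C (M i j)
  have hXl : j ((PowerSeries.X : PowerSeries R) ^ c) = HahnSeries.single (l : ℤ) (1 : R) * HahnSeries.single (l : ℤ) (1 : R) := by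
    show HahnSeries.ofPowerSeries ℤ R _ = _
    rw [HahnSeries.ofPowerSeries_X_pow, HahnSeries.single_mul_single, one_mul]
    congr 2
    simp only [c]; push_cast; ring
  have e1 : q.map PowerSeries.C * M₁ * p.map PowerSeries.C = M₁ := by
    refine Matrix.map_injective hj ?_
    show (q.map PowerSeries.C * M₁ * p.map PowerSeries.C).map j = M₁.map j
    rw [Matrix.map_mul, Matrix.map_mul, hM₁, hC, hC, Matrix.mul_smul, Matrix.smul_mul, hH]
  have e2 : p.map PowerSeries.C * M₂ * q.map PowerSeries.C = M₂ := by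
    refine Matrix.map_injective hj ?_
    show (p.map PowerSeries.C * M₂ * q.map PowerSeries.C).map j = M₂.map j
    rw [Matrix.map_mul, Matrix.map_mul, hM₂, hC, hC, Matrix.mul_smul, Matrix.smul_mul, hH']
  have e3 : M₁ * p.map PowerSeries.C * M₂ = (PowerSeries.X : PowerSeries R) ^ c • q.map PowerSeries.C := by
    refine Matrix.map_injective hj ?_
    show (M₁ * p.map PowerSeries.C * M₂).map j = ((PowerSeries.X : PowerSeries R) ^ c • q.map PowerSeries.C).map j
    rw [Matrix.map_mul, Matrix.map_mul, hM₁, hM₂, hC, map_smul_matrix' j, hC, hXl, Matrix.smul_mul,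
      Matrix.smul_mul, Matrix.mul_smul, smul_smul, h1]
  have e4 : M₂ * q.map PowerSeries.C * M₁ = (PowerSeries.X : PowerSeries R) ^ c • p.map PowerSeries.C := by
    refine Matrix.map_injective hj ?_
    show (M₂ * q.map PowerSeries.C * M₁).map j = ((PowerSeries.X : PowerSeries R) ^ c • p.map PowerSeries.C).map j
    rw [Matrix.map_mul, Matrix.map_mul, hM₁, hM₂, hC, map_smul_matrix' j, hC, hXl, Matrix.smul_mul,
      Matrix.smul_mul, Matrix.mul_smul, smul_smul, h2]
  obtain ⟨W, hW, hWq, hG1⟩ := exists_trunc_mul p q hp hq c M₁ M₂ e1 e3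
  obtain ⟨W', hW', hW'p, hG2⟩ := exists_trunc_mul q p hq hp c M₂ M₁ e2 e4
  have hqq : q.map (C : R →+* R[X]) * q.map C = q.map C := by rw [← Matrix.map_mul, hq]
  have hpp : p.map (C : R →+* R[X]) * p.map C = p.map C := by rw [← Matrix.map_mul, hp]
  refine exists_inverse_of_poly p q hp hq (c := c) (by omega)
    (q.map C * M₁.map (PowerSeries.trunc (c + 1)) * p.map C)
    (p.map C * M₂.map (PowerSeries.trunc (c + 1)) * q.map C) W W' ?_ ?_ ?_ ?_ hW hWq hW' hW'p hG1 hG2
  · simp only [← Matrix.mul_assoc, hqq]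
  · simp only [Matrix.mul_assoc, hpp]
  · simp only [← Matrix.mul_assoc, hpp]
  · simp only [Matrix.mul_assoc, hqq]

theorem nonempty_equiv (L : Type u) [CommRing L] [Algebra R L] (eL : L ≃ₐ[R] LaurentSeries R)
    (M N : Type u) [AddCommGroup M] [Module R M] [Module.Finite R M] [Module.Projective R M]
    [AddCommGroup N] [Module R N] [Module.Finite R N] [Module.Projective R N]
    (θ : L ⊗[R] M ≃ₗ[L] L ⊗[R] N) : Nonempty (M ≃ₗ[R] N) := by
  classical
  obtain ⟨n, πM, iM, -, -, hM⟩ := Module.Finite.exists_comp_eq_id_of_projective R M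
  obtain ⟨m, πN, iN, -, -, hN⟩ := Module.Finite.exists_comp_eq_id_of_projective R N
  let p := LinearMap.toMatrix' (iM ∘ₗ πM)
  let q := LinearMap.toMatrix' (iN ∘ₗ πN)
  have hp : p * p = p := by
    rw [← LinearMap.toMatrix'_comp]
    exact congrArg _ (LinearMap.ext fun x => congrArg iM (LinearMap.congr_fun hM (πM x)))
  have hq : q * q = q := by
    rw [← LinearMap.toMatrix'_comp]
    exact congrArg _ (LinearMap.ext fun x => congrArg iN (LinearMap.congr_fun hN (πN x)))
  let Jn := TensorProduct.piScalarRight R L L (Fin n)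
  let Jm := TensorProduct.piScalarRight R L L (Fin m)
  let iM' := Jn.toLinearMap ∘ₗ iM.baseChange L
  let πM' := πM.baseChange L ∘ₗ Jn.symm.toLinearMap
  let iN' := Jm.toLinearMap ∘ₗ iN.baseChange L
  let πN' := πN.baseChange L ∘ₗ Jm.symm.toLinearMap
  have hmat : ∀ {a : ℕ} (g : (Fin a → R) →ₗ[R] (Fin a → R)) (z : L ⊗[R] (Fin a → R)),
      TensorProduct.piScalarRight R L L (Fin a) (g.baseChange L z) =
        Matrix.toLin' ((LinearMap.toMatrix' g).map (algebraMap R L)) (TensorProduct.piScalarRight R L L (Fin a) z) := by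
    intro a g z
    induction z using TensorProduct.induction_on with
    | zero => simp
    | tmul x v =>
      ext i
      rw [LinearMap.baseChange_tmul]
      conv_lhs => rw [← Matrix.toLin'_toMatrix' g]
      simp only [TensorProduct.piScalarRight_apply, TensorProduct.piScalarRightHom_tmul,
        Matrix.toLin'_apply, Matrix.mulVec, dotProduct, Matrix.map_apply, Algebra.smul_def, map_sum,
        Finset.sum_mul, map_mul]
      refine Finset.sum_congr rfl fun j _ => ?_
      ring
    | add x y hx hy => rw [map_add, map_add, map_add, map_add, hx, hy]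
  have hM' : ∀ y, πM' (iM' y) = y := fun y => by
    simp only [πM', iM', LinearMap.comp_apply, LinearEquiv.coe_coe, LinearEquiv.symm_apply_apply]
    rw [← LinearMap.comp_apply, ← LinearMap.baseChange_comp, hM, LinearMap.baseChange_id]
    rfl
  have hN' : ∀ y, πN' (iN' y) = y := fun y => by
    simp only [πN', iN', LinearMap.comp_apply, LinearEquiv.coe_coe, LinearEquiv.symm_apply_apply]
    rw [← LinearMap.comp_apply, ← LinearMap.baseChange_comp, hN, LinearMap.baseChange_id]
    rfl
  have hP' : iM' ∘ₗ πM' = Matrix.toLin' (p.map (algebraMap R L)) := by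
    refine LinearMap.ext fun x => ?_
    simp only [πM', iM', LinearMap.comp_apply, LinearEquiv.coe_coe]
    rw [← LinearMap.comp_apply (iM.baseChange L), ← LinearMap.baseChange_comp, hmat,
      LinearEquiv.apply_symm_apply]
  have hQ' : iN' ∘ₗ πN' = Matrix.toLin' (q.map (algebraMap R L)) := by
    refine LinearMap.ext fun x => ?_
    simp only [πN', iN', LinearMap.comp_apply, LinearEquiv.coe_coe]
    rw [← LinearMap.comp_apply (iN.baseChange L), ← LinearMap.baseChange_comp, hmat,
      LinearEquiv.apply_symm_apply]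
  let H := LinearMap.toMatrix' (iN' ∘ₗ θ.toLinearMap ∘ₗ πM')
  let H' := LinearMap.toMatrix' (iM' ∘ₗ θ.symm.toLinearMap ∘ₗ πN')
  have key : ∀ {a b : ℕ} (X Y : Matrix (Fin a) (Fin b) L),
      (∀ z, Matrix.toLin' X z = Matrix.toLin' Y z) → X = Y := fun X Y h =>
    Matrix.toLin'.injective (LinearMap.ext h)
  have a1 : q.map (algebraMap R L) * H * p.map (algebraMap R L) = H := key _ _ fun z => by
    rw [Matrix.toLin'_mul, Matrix.toLin'_mul, Matrix.toLin'_toMatrix', ← hP', ← hQ']
    simp only [LinearMap.comp_apply, hN', hM']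
  have a2 : p.map (algebraMap R L) * H' * q.map (algebraMap R L) = H' := key _ _ fun z => by
    rw [Matrix.toLin'_mul, Matrix.toLin'_mul, Matrix.toLin'_toMatrix', ← hP', ← hQ']
    simp only [LinearMap.comp_apply, hN', hM']
  have a3 : H * p.map (algebraMap R L) * H' = q.map (algebraMap R L) := key _ _ fun z => by
    rw [Matrix.toLin'_mul, Matrix.toLin'_mul, Matrix.toLin'_toMatrix', Matrix.toLin'_toMatrix', ← hP', ← hQ']
    simp only [LinearMap.comp_apply, LinearEquiv.coe_coe, hM', LinearEquiv.apply_symm_apply]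
  have a4 : H' * q.map (algebraMap R L) * H = p.map (algebraMap R L) := key _ _ fun z => by
    rw [Matrix.toLin'_mul, Matrix.toLin'_mul, Matrix.toLin'_toMatrix', Matrix.toLin'_toMatrix', ← hP', ← hQ']
    simp only [LinearMap.comp_apply, LinearEquiv.coe_coe, hN', LinearEquiv.symm_apply_apply]
  let f : L →+* LaurentSeries R := eL.toRingEquiv.toRingHom
  have hf : ∀ {a : ℕ} (X : Matrix (Fin a) (Fin a) R), (X.map (algebraMap R L)).map f = X.map (cL R) := by
    intro a X
    refine Matrix.ext fun i j => ?_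
    show eL (algebraMap R L (X i j)) = _
    rw [AlgEquiv.commutes]
    simp [cL, RingHom.algebraMap_toAlgebra]
  obtain ⟨P, Q, h3, h4⟩ := exists_inverse p q hp hq (H.map f) (H'.map f)
    (by rw [← hf, ← hf, ← Matrix.map_mul, ← Matrix.map_mul, a1])
    (by rw [← hf, ← hf, ← Matrix.map_mul, ← Matrix.map_mul, a2])
    (by rw [← hf, ← hf, ← Matrix.map_mul, ← Matrix.map_mul, a3])
    (by rw [← hf, ← hf, ← Matrix.map_mul, ← Matrix.map_mul, a4])
  have b1 : ∀ x, iN (πN (Matrix.toLin' P (iM (πM (Matrix.toLin' Q (iN x)))))) = iN x := fun x => by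
    have hh := LinearMap.congr_fun (congrArg Matrix.toLin' h3) (iN x)
    rw [Matrix.toLin'_mul, Matrix.toLin'_mul] at hh
    simp only [p, q, Matrix.toLin'_toMatrix', LinearMap.comp_apply] at hh
    rw [hh, ← LinearMap.comp_apply πN, hN, LinearMap.id_apply, ← LinearMap.comp_apply πN, hN,
      LinearMap.id_apply]
  have b2 : ∀ x, iM (πM (Matrix.toLin' Q (iN (πN (Matrix.toLin' P (iM x)))))) = iM x := fun x => by
    have hh := LinearMap.congr_fun (congrArg Matrix.toLin' h4) (iM x)
    rw [Matrix.toLin'_mul, Matrix.toLin'_mul] at hh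
    simp only [p, q, Matrix.toLin'_toMatrix', LinearMap.comp_apply] at hh
    rw [hh, ← LinearMap.comp_apply πM, hM, LinearMap.id_apply, ← LinearMap.comp_apply πM, hM,
      LinearMap.id_apply]
  refine ⟨LinearEquiv.ofLinearMap (πN ∘ₗ Matrix.toLin' P ∘ₗ iM) (πM ∘ₗ Matrix.toLin' Q ∘ₗ iN)
    (LinearMap.ext fun x => ?_) (LinearMap.ext fun x => ?_)⟩
  · have := congrArg πN (b1 x)
    simp only [← LinearMap.comp_apply πN iN, hN, LinearMap.id_apply] at this
    exact this
  · have := congrArg πM (b2 x)
    simp only [← LinearMap.comp_apply πM iM, hM, LinearMap.id_apply] at this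
    exact this

end Groth.Agent.CAlg9.Loop
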