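import Groth.Agent.CAlg9.Horrocks.Quillen
import Mathlib.LinearAlgebra.Matrix.ToLin
import Mathlib.RingTheory.LaurentSeries
import Mathlib.RingTheory.PowerSeries.Trunc
import Mathlib.Data.Matrix.ColumnRowPartitioned

/-!
Two finite projective modules over `R` which are isomorphic over `R((X))` are isomorphic: the
lattice in question extends to a bundle on the projective line, hence is constant on the affine line.
-/

set_option autoImplicit false
universe u

open Polynomial Groth.Agent.CAlg9.Horrocks

namespace Groth.Agent.CAlg9.Loop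

variable {R : Type u} [CommRing R]

theorem map_smul_matrix {S T : Type u} [CommRing S] [CommRing T] {ι κ : Type*} (f : S →+* T) (a : S)
    (M : Matrix ι κ S) : (a • M).map f = f a • M.map f := by
  ext i j; simp

theorem X_pow_smul_cancel {ι κ : Type*} (c : ℕ) {M N : Matrix ι κ R[X]}
    (h : (X : R[X]) ^ c • M = (X : R[X]) ^ c • N) : M = N := by
  refine Matrix.ext fun i j => ?_
  have := congrFun (congrFun h i) j
  simp only [Matrix.smul_apply, smul_eq_mul] at this
  exact (monic_X_pow c).isRegular.left this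

theorem eval_X_pow_smul {ι κ : Type*} {c : ℕ} (hc : c ≠ 0) (M : Matrix ι κ R[X]) :
    ((X : R[X]) ^ c • M).map (evalRingHom (0 : R)) = 0 := by
  rw [map_smul_matrix, map_pow, coe_evalRingHom, eval_X, zero_pow hc, zero_smul]

/-- a polynomial map between constant retracts with an inverse up to a power of `X` yields an
equivalence of the retracts -/
theorem exists_inverse_of_poly {n m : ℕ} (p : Matrix (Fin n) (Fin n) R) (q : Matrix (Fin m) (Fin m) R)
    (hp : p * p = p) (hq : q * q = q) {c : ℕ} (hc : c ≠ 0)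
    (G : Matrix (Fin m) (Fin n) R[X]) (G' : Matrix (Fin n) (Fin m) R[X])
    (W : Matrix (Fin m) (Fin m) R[X]) (W' : Matrix (Fin n) (Fin n) R[X])
    (hG : q.map C * G = G) (hGp : G * p.map C = G) (hG' : p.map C * G' = G') (hG'q : G' * q.map C = G')
    (hW : q.map C * W = W) (hWq : W * q.map C = W) (hW' : p.map C * W' = W') (hW'p : W' * p.map C = W')
    (h1 : G * G' = (X : R[X]) ^ c • (q.map C + (X : R[X]) • W))
    (h2 : G' * G = (X : R[X]) ^ c • (p.map C + (X : R[X]) • W')) :
    ∃ (P : Matrix (Fin m) (Fin n) R) (Q : Matrix (Fin n) (Fin m) R), P * p * Q = q ∧ Q * q * P = p := by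
  classical
  let qC := q.map (C : R →+* R[X])
  let pC := p.map (C : R →+* R[X])
  have hqq : qC * qC = qC := by simp only [qC, ← Matrix.map_mul, hq]
  have hpp : pC * pC = pC := by simp only [pC, ← Matrix.map_mul, hp]
  let u := qC + (X : R[X]) • W
  let u' := pC + (X : R[X]) • W'
  let S := -((X : R[X]) • W)
  let S' := -((X : R[X]) • W')
  let Z := qC * (-W) ^ c * qC
  let sS' := ∑ i ∈ Finset.range c, S' ^ i
  let sS := ∑ i ∈ Finset.range c, S ^ i
  have hu : u = qC * (1 - S) := by
    simp only [u, S, sub_neg_eq_add, Matrix.mul_add, Matrix.mul_one, Matrix.mul_smul]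
    rw [show qC * W = W from hW]
  have hcomm : G' * u = u' * G' := by
    refine X_pow_smul_cancel c ?_
    rw [← Matrix.mul_smul, ← Matrix.smul_mul, ← h1, ← h2, Matrix.mul_assoc]
  have hSG : G' * S = S' * G' := by
    have e1 : G' * u = G' - G' * S := by
      rw [hu, ← Matrix.mul_assoc, show G' * qC = G' from hG'q, Matrix.mul_sub, Matrix.mul_one]
    have e2 : u' * G' = G' - S' * G' := by
      simp only [u', S', Matrix.add_mul, Matrix.neg_mul, sub_neg_eq_add]
      rw [show pC * G' = G' from hG']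
    rw [e1, e2] at hcomm
    exact sub_right_injective hcomm
  have hSi : ∀ i : ℕ, G' * S ^ i = S' ^ i * G' := by
    intro i
    induction i with
    | zero => simp
    | succ i ih => rw [pow_succ, ← Matrix.mul_assoc, ih, Matrix.mul_assoc, hSG, ← Matrix.mul_assoc, ← pow_succ]
  have hSum : G' * sS = sS' * G' := by
    simp only [sS', sS, Matrix.mul_sum, Matrix.sum_mul, hSi]
  have hA : G' * (sS * qC) * G = (X : R[X]) ^ c • (sS' * u') := by
    rw [← Matrix.mul_assoc, hSum, Matrix.mul_assoc sS' G' qC, show G' * qC = G' from hG'q,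
      Matrix.mul_assoc, h2, Matrix.mul_smul]
  have hB : u * (sS * qC) + (X : R[X]) ^ c • Z = qC := by
    rw [hu, Matrix.mul_assoc, ← Matrix.mul_assoc (1 - S), mul_neg_geom_sum, Matrix.sub_mul,
      Matrix.one_mul, Matrix.mul_sub, hqq]
    simp only [Z, S, ← smul_neg]
    rw [_root_.smul_pow, Matrix.smul_mul, Matrix.mul_smul, Matrix.mul_assoc qC, sub_add_cancel]
  -- the bundle
  let σ : R[X] →+* LaurentPolynomial R := σ₁
  let τ : LaurentPolynomial R := LaurentPolynomial.T (-(c : ℤ))
  have hτ : τ * σ (X ^ c) = 1 := by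
    show LaurentPolynomial.T (-(c : ℤ)) * σ₁ (X ^ c) = 1
    rw [σ₁_X_pow, T_mul_T]; simp
  let e : Fin (n + m) ≃ Fin n ⊕ Fin m := finSumFinEquiv.symm
  let I : Matrix (Fin (n + m)) (Fin m) (LaurentPolynomial R) :=
    (Matrix.fromRows (τ • (G' * (sS * qC)).map σ) (Z.map σ)).submatrix e id
  let J : Matrix (Fin m) (Fin (n + m)) (LaurentPolynomial R) :=
    (Matrix.fromCols (G.map σ) (((X : R[X]) ^ c • qC).map σ)).submatrix id e
  let Eblk := Matrix.fromBlocks (sS' * u') (G' * (sS * qC)) (Z * G) ((X : R[X]) ^ c • Z)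
  let E : Matrix (Fin (n + m)) (Fin (n + m)) R[X] := Eblk.submatrix e e
  have hZq : Z * qC = Z := by simp only [Z, Matrix.mul_assoc, hqq]
  have hqZ : qC * Z = Z := by simp only [Z, ← Matrix.mul_assoc, hqq]
  have hIJ : I * J = E.map σ := by
    simp only [I, J, E, Eblk]
    rw [Matrix.submatrix_mul _ _ e id e Function.bijective_id |>.symm, Matrix.fromRows_mul_fromCols,
      ← Matrix.submatrix_map, Matrix.fromBlocks_map]
    congr 2
    · rw [Matrix.smul_mul, ← Matrix.map_mul, hA, map_smul_matrix, smul_smul, hτ, one_smul]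
    · rw [map_smul_matrix, Matrix.smul_mul, Matrix.mul_smul, smul_smul, ← Matrix.map_mul, hτ, one_smul,
        Matrix.mul_assoc, Matrix.mul_assoc, hqq]
    · rw [← Matrix.map_mul]
    · rw [← Matrix.map_mul, Matrix.mul_smul, hZq]
  have hJI : J * I = qC.map σ := by
    simp only [I, J]
    rw [(Matrix.submatrix_mul _ _ id e id e.bijective).symm, Matrix.submatrix_id_id,
      Matrix.fromCols_mul_fromRows, Matrix.mul_smul, ← Matrix.map_mul, ← Matrix.map_mul,
      ← Matrix.mul_assoc G, h1, Matrix.smul_mul, map_smul_matrix, smul_smul, hτ, one_smul,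
      ← Matrix.map_add _ (map_add σ), Matrix.smul_mul, hqZ, hB]
  have hqinj : Function.Injective (σ : R[X] → LaurentPolynomial R) := Polynomial.toLaurent_injective
  have hE : E * E = E := by
    refine Matrix.map_injective hqinj ?_
    show (E * E).map σ = E.map σ
    rw [Matrix.map_mul, ← hIJ, Matrix.mul_assoc, ← Matrix.mul_assoc J, hJI]
    congr 1
    simp only [J]
    rw [show qC.map σ * (Matrix.fromCols (G.map σ) (((X : R[X]) ^ c • qC).map σ)).submatrix id e =
      ((qC.map σ) * Matrix.fromCols (G.map σ) (((X : R[X]) ^ c • qC).map σ)).submatrix id e from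
        (Matrix.submatrix_mul _ _ id id e Function.bijective_id).trans (by rw [Matrix.submatrix_id_id]) |>.symm,
      Matrix.mul_fromCols, ← Matrix.map_mul, ← Matrix.map_mul, Matrix.mul_smul, hqq,
      show qC * G = G from hG]
  have hσC : qC.map σ = qC.map (σ₂ (A := R)) := by
    refine Matrix.ext fun i j => ?_
    simp only [qC, Matrix.map_apply]
    exact (σ₁_C (q i j)).trans (σ₂_C (q i j)).symm
  have hsim := extended E hE qC hqq I J hIJ (hσC ▸ hJI)
  -- the two fibres
  let ev1 : LaurentPolynomial R →+* R := LaurentPolynomial.eval₂ (RingHom.id R) 1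
  have hev : ev1.comp σ = evalRingHom 1 := Polynomial.ringHom_ext (fun a => by simp [ev1, σ, σ₁])
    (by simp [ev1, σ, σ₁])
  have hIJ1 : I.map ev1 * J.map ev1 = E.map (evalRingHom 1) := by
    rw [← Matrix.map_mul, hIJ, map_map_hom, hev]
  have hJI1 : J.map ev1 * I.map ev1 = q := by
    rw [← Matrix.map_mul, hJI, map_map_hom, hev]
    ext i j; simp [qC]
  obtain ⟨U, V, hU, hV, hUV, hVU⟩ := Sim.map (evalRingHom (1 : R)) hsim
  have hE0 : (E.map ((Polynomial.C).comp (evalRingHom (0 : R)))).map (evalRingHom (1 : R)) =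
      E.map (evalRingHom 0) := by
    ext i j; simp
  rw [hE0] at hU hUV
  let U0 : Matrix (Fin (n + m)) (Fin n) R :=
    (Matrix.fromRows p ((Z * G).map (evalRingHom 0))).submatrix e id
  let V0 : Matrix (Fin n) (Fin (n + m)) R :=
    (Matrix.fromCols p (G'.map (evalRingHom 0))).submatrix id e
  have hev0S : ∀ {k : ℕ} (M : Matrix (Fin k) (Fin k) R[X]),
      (∑ i ∈ Finset.range c, (-((X : R[X]) • M)) ^ i).map (evalRingHom (0 : R)) = 1 := by
    intro k M
    show (evalRingHom (0 : R)).mapMatrix _ = 1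
    rw [map_sum, Finset.sum_eq_single 0]
    · simp
    · intro i _ hi
      rw [map_pow, map_neg, show (evalRingHom (0 : R)).mapMatrix ((X : R[X]) • M) = 0 from Matrix.ext fun a b => by simp, neg_zero, zero_pow hi]
    · intro h; exact absurd (Finset.mem_range.2 (Nat.pos_of_ne_zero hc)) h
  have hu0 : u'.map (evalRingHom (0 : R)) = p := by ext i j; simp [u', pC]
  have hq0 : qC.map (evalRingHom (0 : R)) = q := by ext i j; simp [qC]
  have hp0 : pC.map (evalRingHom (0 : R)) = p := by ext i j; simp [pC]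
  have hZG : (Z * G).map (evalRingHom (0 : R)) * p = (Z * G).map (evalRingHom 0) := by
    conv_lhs => rw [← hp0]
    rw [← Matrix.map_mul, Matrix.mul_assoc, show G * pC = G from hGp]
  have hpG' : p * G'.map (evalRingHom (0 : R)) = G'.map (evalRingHom 0) := by
    conv_lhs => rw [← hp0]
    rw [← Matrix.map_mul, show pC * G' = G' from hG']
  have hUV0 : U0 * V0 = E.map (evalRingHom 0) := by
    simp only [U0, V0, E, Eblk]
    rw [Matrix.submatrix_mul _ _ e id e Function.bijective_id |>.symm, Matrix.fromRows_mul_fromCols,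
      ← Matrix.submatrix_map, Matrix.fromBlocks_map]
    congr 2
    · rw [Matrix.map_mul, hev0S, hu0, Matrix.one_mul, hp]
    · rw [hpG', Matrix.map_mul, Matrix.map_mul, hev0S, hq0, Matrix.one_mul, ← hq0, ← Matrix.map_mul,
        show G' * qC = G' from hG'q]
    · rw [← Matrix.map_mul, Matrix.mul_assoc, h1, Matrix.mul_smul, eval_X_pow_smul hc, eval_X_pow_smul hc]
  have hVU0 : V0 * U0 = p := by
    simp only [U0, V0]
    rw [(Matrix.submatrix_mul _ _ id e id e.bijective).symm, Matrix.submatrix_id_id,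
      Matrix.fromCols_mul_fromRows, hp, ← Matrix.map_mul,
      show (G' * (Z * G)).map (evalRingHom (0 : R)) = 0 from ?_, add_zero]
    have e1 : G' * (Z * G) = (-1 : R[X]) ^ c • (G' * W ^ c * G) := by
      simp only [Z]
      rw [← neg_one_smul R[X] W, _root_.smul_pow, Matrix.mul_smul, Matrix.smul_mul, Matrix.smul_mul,
        Matrix.mul_smul, Matrix.mul_assoc, show qC * G = G from hG,
        ← Matrix.mul_assoc, ← Matrix.mul_assoc, show G' * qC = G' from hG'q]
    have hWG : ∀ i : ℕ, (G' * W ^ i * G).map (evalRingHom (0 : R)) = 0 := by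
      intro i
      have e2 : (X : R[X]) ^ i • (G' * W ^ i * G) = (-1 : R[X]) ^ i • ((X : R[X]) ^ c • (S' ^ i * u')) := by
        have : G' * S ^ i * G = (X : R[X]) ^ c • (S' ^ i * u') := by
          rw [hSi, Matrix.mul_assoc, h2, Matrix.mul_smul]
        rw [← this, show S = (-1 : R[X]) • ((X : R[X]) • W) by rw [neg_one_smul], _root_.smul_pow, _root_.smul_pow,
          Matrix.mul_smul, Matrix.smul_mul, Matrix.mul_smul, Matrix.smul_mul, smul_smul, ← mul_pow,
          neg_one_mul, neg_neg, one_pow, one_smul]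
      rw [show S' = (X : R[X]) • (-W') by simp [S'], _root_.smul_pow, Matrix.smul_mul, smul_comm ((X : R[X]) ^ c),
        smul_comm ((-1 : R[X]) ^ i)] at e2
      rw [X_pow_smul_cancel i e2, map_smul_matrix, eval_X_pow_smul hc, smul_zero]
    rw [e1, map_smul_matrix, hWG, smul_zero]
  -- compose
  refine ⟨J.map ev1 * V * U0, V0 * U * I.map ev1, ?_, ?_⟩
  · calc J.map ev1 * V * U0 * p * (V0 * U * I.map ev1)
        = J.map ev1 * V * (U0 * (V0 * U0) * V0) * U * I.map ev1 := by
          rw [hVU0]; simp only [Matrix.mul_assoc]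
      _ = J.map ev1 * V * ((U0 * V0) * ((U0 * V0) * U)) * I.map ev1 := by simp only [Matrix.mul_assoc]
      _ = J.map ev1 * (V * U) * I.map ev1 := by rw [hUV0, hU, hU]; simp only [Matrix.mul_assoc]
      _ = J.map ev1 * I.map ev1 * (J.map ev1 * I.map ev1) := by
          rw [hVU, ← hIJ1]; simp only [Matrix.mul_assoc]
      _ = q := by rw [hJI1, hq]
  · calc V0 * U * I.map ev1 * q * (J.map ev1 * V * U0)
        = V0 * U * (I.map ev1 * (J.map ev1 * I.map ev1) * J.map ev1) * V * U0 := by
          rw [hJI1]; simp only [Matrix.mul_assoc]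
      _ = V0 * U * ((I.map ev1 * J.map ev1) * ((I.map ev1 * J.map ev1) * V)) * U0 := by
          simp only [Matrix.mul_assoc]
      _ = V0 * (U * V) * U0 := by rw [hIJ1, hV, hV]; simp only [Matrix.mul_assoc]
      _ = V0 * U0 * (V0 * U0) := by rw [hUV, ← hUV0]; simp only [Matrix.mul_assoc]
      _ = p := by rw [hVU0, hp]

end Groth.Agent.CAlg9.Loop
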